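import Groth.Agent.GrLib8.LesTools
import Groth.Agent.GrLib8.FreeResBuild
import Groth.Agent.GrLib8.GDual
import Groth.Agent.GrLib8.ExtVanish
import Groth.Agent.LC.CdDim
import Groth.Prelude.Def_GrSeg

/-!
# The dual of the top local cohomology of a module
-/

set_option autoImplicit false
set_option linter.unusedSectionVars false
set_option linter.style.haveILetI false
set_option maxHeartbeats 1600000

universe u

open DirectSum

namespace Groth.Agent.GrLib8

section Add

variable {R : Type u} [CommRing R] {σ : Type u} [SetLike σ R] [AddSubgroupClass σ R] {𝒜 : ℤ → σ} [GradedRing 𝒜]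
variable {M : Type u} [AddCommGroup M] [Module R M] {τ : Type u} [SetLike τ M] [AddSubgroupClass τ M] {ℳ : ℤ → τ}
  [Decomposition ℳ] [SetLike.GradedSMul 𝒜 ℳ]
variable {N : Type u} [AddCommGroup N] [Module R N] {τ' : Type u} [SetLike τ' N] [AddSubgroupClass τ' N] {𝒩 : ℤ → τ'}
  [Decomposition 𝒩] [SetLike.GradedSMul 𝒜 𝒩]
variable {E : GrLC.StarInjRes 𝒜 ℳ} {F : GrLC.StarInjRes 𝒜 𝒩} (a : HomogeneousIdeal 𝒜)

theorem isGrHomDeg_add' {f g : M →ₗ[R] N} {d : ℤ} (hf : GrLC.IsGrHomDeg ℳ 𝒩 f d) (hg : GrLC.IsGrHomDeg ℳ 𝒩 g d) :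
    GrLC.IsGrHomDeg ℳ 𝒩 (f + g) d := fun j x hx => by
  rw [LinearMap.add_apply]
  exact add_mem (hf j x hx) (hg j x hx)

theorem hmap_add_top {f g : M →ₗ[R] N} {d : ℤ} (hf : GrLC.IsGrHomDeg ℳ 𝒩 f d) (hg : GrLC.IsGrHomDeg ℳ 𝒩 g d)
    (hfg : GrLC.IsGrHomDeg ℳ 𝒩 (f + g) d) (i : ℕ) :
    hmap E F a (f + g) hfg i = hmap E F a f hf i + hmap E F a g hg i := by
  obtain ⟨L, hL⟩ := exists_lift E F f hf
  obtain ⟨L', hL'⟩ := exists_lift E F g hg
  have hLL : IsLift E F (f + g) d fun n => L n + L' n :=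
    { deg := fun n => isGrHomDeg_add' (hL.deg n) (hL'.deg n)
      eps := by rw [LinearMap.add_comp, hL.eps, hL'.eps, LinearMap.comp_add]
      comm := fun n => by rw [LinearMap.add_comp, hL.comm n, hL'.comm n, LinearMap.comp_add] }
  rw [hmap_eq a hf hL, hmap_eq a hg hL', hmap_eq a hfg hLL]
  exact Submodule.linearMap_qext _ (LinearMap.ext fun z => rfl)

theorem isGrHomDeg_sum {ι : Type*} (s : Finset ι) (f : ι → M →ₗ[R] N) {d : ℤ}
    (hf : ∀ j, GrLC.IsGrHomDeg ℳ 𝒩 (f j) d) : GrLC.IsGrHomDeg ℳ 𝒩 (∑ j ∈ s, f j) d := fun g x hx => by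
  rw [LinearMap.sum_apply]
  exact sum_mem fun j _ => hf j g x hx

theorem hmap_sum {ι : Type*} (s : Finset ι) (f : ι → M →ₗ[R] N) {d : ℤ} (hf : ∀ j, GrLC.IsGrHomDeg ℳ 𝒩 (f j) d)
    (h : GrLC.IsGrHomDeg ℳ 𝒩 (∑ j ∈ s, f j) d) (i : ℕ) :
    hmap E F a (∑ j ∈ s, f j) h i = ∑ j ∈ s, hmap E F a (f j) (hf j) i := by
  classical
  induction s using Finset.induction_on with
  | empty => exact (hmap_congr a Finset.sum_empty h (fun _ _ _ => zero_mem _) i).trans (hmap_zero a _ i)
  | insert j s hj ih =>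
    refine (hmap_congr a (Finset.sum_insert hj) h (isGrHomDeg_add' (hf j) (isGrHomDeg_sum s f hf)) i).trans ?_
    rw [hmap_add_top a (hf j) (isGrHomDeg_sum s f hf), ih, Finset.sum_insert hj]

end Add

section Top

variable {R : Type u} [CommRing R] [IsNoetherianRing R] {σ : Type u} [SetLike σ R] [AddSubgroupClass σ R]
  {𝒜 : ℤ → σ} [GradedRing 𝒜]
variable {M : Type u} [AddCommGroup M] [Module R M] {ℳ : ℤ → AddSubgroup M}
  [Decomposition ℳ] [SetLike.GradedSMul 𝒜 ℳ]
variable (a : HomogeneousIdeal 𝒜) {n : ℕ} (hn : ringKrullDim R ≤ n) (I : GrLC.StarInjRes 𝒜 𝒜)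

/-- The map from the ring attached to a homogeneous element. -/
theorem isGrHomDeg_toSpan {g : ℤ} {x : M} (hx : x ∈ ℳ g) :
    GrLC.IsGrHomDeg 𝒜 ℳ (LinearMap.toSpanSingleton R M x) g := fun j r hr => by
  rw [LinearMap.toSpanSingleton_apply, ← vadd_eq_add]
  exact SetLike.GradedSMul.smul_mem hr hx

include hn in
theorem subsingleton_above (E : GrLC.StarInjRes 𝒜 ℳ) {i : ℕ} (hi : n < i) : Subsingleton (E.H a i) := by
  obtain ⟨e⟩ := nonempty_H_equiv ℳ E a i
  haveI := LC.cdLE_of_ringKrullDim_le a.toIdeal hn M i hi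
  exact e.toEquiv.subsingleton

include hn in
/-- A short exact sequence gives exactness on the right in the top degree. -/
theorem top_exact {A B : GrLC.GMod.{u} 𝒜} (f : A.carrier →ₗ[R] B.carrier) (p : B.carrier →ₗ[R] M)
    (hf : GrLC.IsGrHomDeg A.gr B.gr f 0) (hp : GrLC.IsGrHomDeg B.gr ℳ p 0) (hinj : Function.Injective f)
    (hsurj : Function.Surjective p) (hex : Function.Exact f p)
    (EA : GrLC.StarInjRes 𝒜 A.gr) (EB : GrLC.StarInjRes 𝒜 B.gr) (EM : GrLC.StarInjRes 𝒜 ℳ) :
    Function.Surjective (hmap EB EM a p hp n) ∧ Function.Exact (hmap EA EB a f hf n) (hmap EB EM a p hp n) := by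
  obtain ⟨-, hles⟩ := exists_les f p hf hp hinj hsurj hex EA EB EM a
  obtain ⟨δ, -, e1, e2, -⟩ := hles n
  haveI := subsingleton_above a hn EA (lt_add_one n)
  exact ⟨fun z => (e2 z).1 (Subsingleton.elim _ _), e1⟩

/-- Coordinate projection of a free module. -/
noncomputable def projF {K : ℕ} (e : Fin K → ℤ) (j : Fin K) : (freeGMod (𝒜 := 𝒜) e).carrier →ₗ[R] R :=
  (LinearMap.proj j : (Fin K → R) →ₗ[R] R)

theorem isGrHomDeg_projF {K : ℕ} (e : Fin K → ℤ) (j : Fin K) :
    GrLC.IsGrHomDeg (freeGMod (𝒜 := 𝒜) e).gr 𝒜 (projF (𝒜 := 𝒜) e j) (-e j) := fun g v hv => by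
  have h := (show (v : Fin K → R) ∈ freePieces (𝒜 := 𝒜) e g from hv) j trivial
  rw [← sub_eq_add_neg]
  exact h

include hn in
/-- Everything in the top cohomology comes from the ring. -/
theorem exists_sum_hmap [Module.Finite R M] (EM : GrLC.StarInjRes 𝒜 ℳ) {K : ℕ} {t : Fin K → M} {e : Fin K → ℤ}
    (ht : ∀ j, t j ∈ ℳ (e j)) (htop : Submodule.span R (Set.range t) = ⊤) (z : EM.H a n) :
    ∃ y : Fin K → I.H a n, z = ∑ j, hmap I EM a (LinearMap.toSpanSingleton R M (t j)) (isGrHomDeg_toSpan (ht j)) n (y j) := by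
  classical
  let F := freeGMod (𝒜 := 𝒜) e
  let p : F.carrier →ₗ[R] M := Fintype.linearCombination R t
  have hp : GrLC.IsGrHomDeg F.gr ℳ p 0 := isGrHomDeg_linComb t ht
  have hsurj : Function.Surjective p := LinearMap.range_eq_top.1 (by
    show LinearMap.range (Fintype.linearCombination R t) = ⊤
    rw [Fintype.range_linearCombination, htop])
  let A := subGMod 𝒜 F.gr (LinearMap.ker p) (isHomogeneous_ker_deg hp)
  let f : A.carrier →ₗ[R] F.carrier := (LinearMap.ker p).subtype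
  let EF := starRes (𝒜 := 𝒜) F.gr
  obtain ⟨h1, -⟩ := top_exact a hn f p (isGrHomDeg_zero_iff.2 fun _ _ hm => hm) hp Subtype.val_injective hsurj
    (LinearMap.exact_subtype_ker_map p) (starRes A.gr) EF EM
  obtain ⟨w, rfl⟩ := h1 z
  refine ⟨fun j => hmap EF I a (projF (𝒜 := 𝒜) e j) (isGrHomDeg_projF e j) n w, ?_⟩
  have hcomp : ∀ j, GrLC.IsGrHomDeg F.gr ℳ (LinearMap.toSpanSingleton R M (t j) ∘ₗ projF (𝒜 := 𝒜) e j) 0 := fun j =>
    isGrHomDeg_comp (isGrHomDeg_projF e j) (isGrHomDeg_toSpan (ht j)) (neg_add_cancel _)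
  have hsum : p = ∑ j, LinearMap.toSpanSingleton R M (t j) ∘ₗ projF (𝒜 := 𝒜) e j := LinearMap.ext fun v => by
    rw [LinearMap.sum_apply]
    exact Fintype.linearCombination_apply R t v
  rw [hmap_congr a hsum hp (isGrHomDeg_sum _ _ hcomp) n, hmap_sum a _ _ hcomp _ n, LinearMap.sum_apply]
  refine Finset.sum_congr rfl fun j _ => ?_
  exact (LinearMap.congr_fun (hmap_comp a (isGrHomDeg_projF e j) (isGrHomDeg_toSpan (ht j)) (hcomp j)
    (neg_add_cancel _) n) w).symm

end Top

section Dual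

variable {k : Type u} [Field k] {R : Type u} [CommRing R] [IsNoetherianRing R] [Algebra k R]
  {σ : Type u} [SetLike σ R] [AddSubgroupClass σ R] {𝒜 : ℤ → σ} [GradedRing 𝒜] (a : HomogeneousIdeal 𝒜) {n : ℕ} (hn : ringKrullDim R ≤ n)
  {I : GrLC.StarInjRes 𝒜 𝒜} [Module k (I.H a n)] [IsScalarTower k R (I.H a n)] [Decomposition (I.Hgr a n)]
  {K : Type u} [AddCommGroup K] [Module R K] [Module k K] [IsScalarTower k R K] {𝒦 : ℤ → AddSubgroup K}
  [Decomposition 𝒦] [SetLike.GradedSMul 𝒜 𝒦] {βK : K →ₗ[k] I.H a n →ₗ[k] k} (hK : GrSeg.IsGDual R (I.Hgr a n) 𝒦 βK)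
  {M : Type u} [AddCommGroup M] [Module R M] {ℳ : ℤ → AddSubgroup M} [Decomposition ℳ] [SetLike.GradedSMul 𝒜 ℳ]
  [Module.Finite R M] {EM : GrLC.StarInjRes 𝒜 ℳ} [Module k (EM.H a n)] [IsScalarTower k R (EM.H a n)]
  [Decomposition (EM.Hgr a n)]
  {D : Type u} [AddCommGroup D] [Module R D] [Module k D] [IsScalarTower k R D] {𝒟 : ℤ → AddSubgroup D}
  [Decomposition 𝒟] [SetLike.GradedSMul 𝒜 𝒟] {βD : D →ₗ[k] EM.H a n →ₗ[k] k}
  (hD : GrSeg.IsGDual R (EM.Hgr a n) 𝒟 βD)

include hn hK hD in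
/-- The dual of the top local cohomology of `M` is `Hom(M, K)`. -/
theorem exists_top_dual : ∃ ε : D ≃ₗ[R] (M →ₗ[R] K),
    GrLC.IsGrHom 𝒟 (fun d : ℤ => (GrLC.homDeg 𝒜 ℳ 𝒦 d).toAddSubgroup) ε.toLinearMap := by
  classical
  haveI : SetLike.GradedSMul 𝒜 (I.Hgr a n) := ⟨fun {i g r y} hr hy => by
    obtain ⟨z, hz, rfl⟩ := hy
    refine ⟨r • z, ?_, map_smul (I.toH a n) r z⟩
    exact SetLike.GradedSMul.smul_mem (B := (I.X n).gr) hr hz⟩
  let hx' : ∀ {g : ℤ} {x : M}, x ∈ ℳ g → (I.H a n →ₗ[R] EM.H a n) := fun {g x} hx =>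
    hmap I EM a (LinearMap.toSpanSingleton R M x) (isGrHomDeg_toSpan hx) n
  -- the relation defining the map
  have huniq : ∀ c c' : K, (∀ y, βK c y = βK c' y) → c = c' := fun c c' h =>
    sub_eq_zero.1 (eq_zero_of_pair hK fun y => by rw [map_sub, LinearMap.sub_apply, h y, sub_self])
  have hex₀ : ∀ (d g : ℤ) (δ : D) (x : M) (hx : x ∈ ℳ g), δ ∈ 𝒟 d →
      ∃ c ∈ 𝒦 (g + d), ∀ y, βK c y = βD δ (hx' hx y) := by
    intro d g δ x hx hδ
    let ξ : I.H a n →ₗ[k] k := βD δ ∘ₗ (hx' hx).restrictScalars k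
    obtain ⟨c, hc, hcv⟩ := hK.exists_eq (g + d) ξ
    refine ⟨c, hc, fun y => ?_⟩
    induction y using DirectSum.Decomposition.inductionOn (I.Hgr a n) with
    | zero => simp
    | add y y' hy hy' => simp only [map_add, hy, hy']
    | @homogeneous h y =>
      rcases eq_or_ne h (-(g + d)) with rfl | hne
      · exact hcv _ y.2
      · rw [hK.vanish _ c hc h hne _ y.2]
        have h1 := isGrHomDeg_hmap (E := I) (F := EM) a (isGrHomDeg_toSpan hx) n h _ y.2
        exact (hD.vanish d δ hδ (h + g) (by omega) _ h1).symm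
  have hex : ∀ (δ : D) (g : ℤ) (x : ℳ g), ∃ c, ∀ y, βK c y = βD δ (hx' x.2 y) := by
    intro δ g x
    induction δ using DirectSum.Decomposition.inductionOn 𝒟 with
    | zero => exact ⟨0, fun y => by simp⟩
    | add δ δ' h h' =>
      obtain ⟨c, hc⟩ := h
      obtain ⟨c', hc'⟩ := h'
      exact ⟨c + c', fun y => by simp only [map_add, LinearMap.add_apply, hc, hc']⟩
    | @homogeneous d δ =>
      obtain ⟨c, -, hc⟩ := hex₀ d g δ x x.2 δ.2
      exact ⟨c, hc⟩
  choose rep hrep using hex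
  have hxadd : ∀ {g : ℤ} {x x' : M} (hx : x ∈ ℳ g) (hx₂ : x' ∈ ℳ g) (h : x + x' ∈ ℳ g), hx' h = hx' hx + hx' hx₂ := by
    intro g x x' hx hx₂ h
    have hc : LinearMap.toSpanSingleton R M (x + x') = LinearMap.toSpanSingleton R M x + LinearMap.toSpanSingleton R M x' :=
      LinearMap.ext fun r => by simp
    exact (hmap_congr a hc _ (isGrHomDeg_add' (isGrHomDeg_toSpan hx) (isGrHomDeg_toSpan hx₂)) n).trans
      (hmap_add_top a _ _ _ n)
  let G : D → (M →+ K) := fun δ => (DirectSum.toAddMonoid fun g => AddMonoidHom.mk' (fun x : ℳ g => rep δ g x)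
    fun x x' => huniq _ _ fun y => by
      rw [map_add, LinearMap.add_apply, hrep, hrep, hrep]
      exact (congrArg (βD δ) (LinearMap.congr_fun (hxadd x.2 x'.2 (x + x').2) y)).trans (map_add _ _ _)).comp (decomposeAddEquiv ℳ).toAddMonoidHom
  have hG : ∀ (δ : D) (g : ℤ) (x : M) (hx : x ∈ ℳ g), G δ x = rep δ g ⟨x, hx⟩ := fun δ g x hx => by
    show DirectSum.toAddMonoid _ (decompose ℳ x) = _
    rw [decompose_of_mem ℳ hx, DirectSum.toAddMonoid_of]
    rfl
  have hGv : ∀ (δ : D) {g : ℤ} {x : M} (hx : x ∈ ℳ g) y, βK (G δ x) y = βD δ (hx' hx y) := fun δ g x hx y => by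
    rw [hG δ g x hx, hrep]
  -- linearity in the module
  have hlin : ∀ (δ : D) (r : R) (x : M), G δ (r • x) = r • G δ x := by
    intro δ r x
    induction r using DirectSum.Decomposition.inductionOn 𝒜 with
    | zero => simp
    | add r r' h h' => simp only [add_smul, map_add, h, h']
    | @homogeneous i r =>
      induction x using DirectSum.Decomposition.inductionOn ℳ with
      | zero => simp
      | add x x' h h' => simp only [smul_add, map_add, h, h']
      | @homogeneous g x =>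
        have hrx : (r : R) • (x : M) ∈ ℳ (i + g) := SetLike.GradedSMul.smul_mem r.2 x.2
        refine huniq _ _ fun y => ?_
        rw [hGv δ hrx, hK.map_smul, hGv δ x.2]
        congr 1
        have hr1 : GrLC.IsGrHomDeg 𝒜 𝒜 ((r : R) • (LinearMap.id : R →ₗ[R] R)) i := isGrHomDeg_smul_id r.2
        have hc : LinearMap.toSpanSingleton R M ((r : R) • (x : M)) =
            LinearMap.toSpanSingleton R M (x : M) ∘ₗ ((r : R) • (LinearMap.id : R →ₗ[R] R)) :=
          LinearMap.ext fun s => by simp [smul_smul, mul_comm]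
        refine (LinearMap.congr_fun ((hmap_congr a hc (isGrHomDeg_toSpan hrx)
          (isGrHomDeg_comp hr1 (isGrHomDeg_toSpan x.2) rfl) n).trans
            (hmap_comp a (F := I) hr1 (isGrHomDeg_toSpan x.2) _ rfl n).symm) y).trans ?_
        rw [LinearMap.comp_apply, hmap_smul_id a hr1 r.2]
        rfl
  let Gl : D → (M →ₗ[R] K) := fun δ => { G δ with map_smul' := hlin δ }
  have hext : ∀ (f f' : M →ₗ[R] K), (∀ (g : ℤ) (x : M), x ∈ ℳ g → f x = f' x) → f = f' := by
    intro f f' h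
    refine LinearMap.ext fun x => ?_
    induction x using DirectSum.Decomposition.inductionOn ℳ with
    | zero => simp
    | add x x' h h' => simp only [map_add, h, h']
    | @homogeneous g x => exact h g x x.2
  let εl : D →ₗ[R] (M →ₗ[R] K) :=
    { toFun := Gl
      map_add' := fun δ δ' => hext _ _ fun g x hx => huniq _ _ fun y => by
        show βK (G (δ + δ') x) y = βK (G δ x + G δ' x) y
        rw [map_add βK, LinearMap.add_apply, hGv _ hx, hGv _ hx, hGv _ hx, map_add, LinearMap.add_apply]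
      map_smul' := fun r δ => hext _ _ fun g x hx => huniq _ _ fun y => by
        show βK (G (r • δ) x) y = βK (r • G δ x) y
        rw [hK.map_smul, hGv _ hx, hGv _ hx, hD.map_smul]
        exact congrArg (βD δ) (map_smul (hx' hx) r y).symm }
  have hdeg : ∀ d, ∀ δ ∈ 𝒟 d, GrLC.IsGrHomDeg ℳ 𝒦 (εl δ) d := by
    intro d δ hδ g x hx
    obtain ⟨c, hc, hcv⟩ := hex₀ d g δ x hx hδ
    show G δ x ∈ _
    rw [huniq (G δ x) c fun y => by rw [hGv δ hx, hcv]]
    exact hc
  obtain ⟨K₀, t, e, ht, htop⟩ := exists_homogeneous_generators ℳ (R := R)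
  have hinj : Function.Injective εl := (injective_iff_map_eq_zero εl).2 fun δ hδ => eq_zero_of_pair hD fun z => by
    obtain ⟨y, rfl⟩ := exists_sum_hmap a hn I EM ht htop z
    rw [map_sum]
    refine Finset.sum_eq_zero fun j _ => ?_
    rw [← hGv δ (ht j) (y j), show G δ (t j) = 0 from LinearMap.congr_fun hδ (t j), map_zero, LinearMap.zero_apply]
  -- surjectivity
  let F := freeGMod (𝒜 := 𝒜) e
  let p : F.carrier →ₗ[R] M := Fintype.linearCombination R t
  have hp : GrLC.IsGrHomDeg F.gr ℳ p 0 := isGrHomDeg_linComb t ht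
  have hpsurj : Function.Surjective p := LinearMap.range_eq_top.1 (by
    show LinearMap.range (Fintype.linearCombination R t) = ⊤
    rw [Fintype.range_linearCombination, htop])
  let A := subGMod 𝒜 F.gr (LinearMap.ker p) (isHomogeneous_ker_deg hp)
  haveI : IsNoetherian R F.carrier := inferInstanceAs (IsNoetherian R (Fin K₀ → R))
  haveI : Module.Finite R A.carrier := Module.Finite.iff_fg.2 (IsNoetherian.noetherian (LinearMap.ker p))
  let ιA : A.carrier →ₗ[R] F.carrier := (LinearMap.ker p).subtype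
  have hιA : GrLC.IsGrHomDeg A.gr F.gr ιA 0 := isGrHomDeg_zero_iff.2 fun _ _ hm => hm
  let EF := starRes (𝒜 := 𝒜) F.gr
  let EA := starRes (𝒜 := 𝒜) A.gr
  obtain ⟨hps, hpe⟩ := top_exact a hn ιA p hιA hp Subtype.val_injective hpsurj
    (LinearMap.exact_subtype_ker_map p) EA EF EM
  obtain ⟨L, u, ee, hu, hutop⟩ := exists_homogeneous_generators A.gr (R := R)
  let π : ∀ j, EF.H a n →ₗ[R] I.H a n := fun j => hmap EF I a (projF (𝒜 := 𝒜) e j) (isGrHomDeg_projF e j) n
  have hsurjd : ∀ d (f : M →ₗ[R] K), GrLC.IsGrHomDeg ℳ 𝒦 f d → ∃ δ, εl δ = f := by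
    intro d f hf
    have hkill : ∀ w, hmap EF EM a p hp n w = 0 → ∑ j, βK (f (t j)) (π j w) = 0 := by
      intro w hw
      obtain ⟨v, rfl⟩ := (hpe w).1 hw
      obtain ⟨y, rfl⟩ := exists_sum_hmap a hn I EA hu hutop v
      simp only [map_sum]
      rw [Finset.sum_comm]
      refine Finset.sum_eq_zero fun l _ => ?_
      have hul : ∀ j, projF (𝒜 := 𝒜) e j (ιA (u l)) ∈ 𝒜 (ee l + -e j) := fun j =>
        isGrHomDeg_projF e j _ _ (by have := hιA _ _ (hu l); rwa [add_zero] at this)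
      have hterm : ∀ j, π j (hmap EA EF a ιA hιA n (hmap I EA a (LinearMap.toSpanSingleton R A.carrier (u l))
          (isGrHomDeg_toSpan (hu l)) n (y l))) = projF (𝒜 := 𝒜) e j (ιA (u l)) • y l := by
        intro j
        have h1 : GrLC.IsGrHomDeg 𝒜 F.gr (ιA ∘ₗ LinearMap.toSpanSingleton R A.carrier (u l)) (ee l) :=
          isGrHomDeg_comp (isGrHomDeg_toSpan (hu l)) hιA (add_zero _)
        have h2 : GrLC.IsGrHomDeg 𝒜 𝒜 (projF (𝒜 := 𝒜) e j ∘ₗ ιA ∘ₗ LinearMap.toSpanSingleton R A.carrier (u l))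
            (ee l + -e j) := isGrHomDeg_comp h1 (isGrHomDeg_projF e j) rfl
        have h3 : GrLC.IsGrHomDeg 𝒜 𝒜 (projF (𝒜 := 𝒜) e j (ιA (u l)) • (LinearMap.id : R →ₗ[R] R)) (ee l + -e j) :=
          isGrHomDeg_smul_id (hul j)
        have hc : projF (𝒜 := 𝒜) e j ∘ₗ ιA ∘ₗ LinearMap.toSpanSingleton R A.carrier (u l) =
            projF (𝒜 := 𝒜) e j (ιA (u l)) • (LinearMap.id : R →ₗ[R] R) := LinearMap.ext fun s => by
          rw [LinearMap.comp_apply, LinearMap.comp_apply, LinearMap.toSpanSingleton_apply, map_smul, map_smul]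
          exact mul_comm _ _
        have e1 := LinearMap.congr_fun (hmap_comp a (E := I) (F := EA) (G := EF) (isGrHomDeg_toSpan (hu l)) hιA h1 (add_zero _) n) (y l)
        have e2 := LinearMap.congr_fun (hmap_comp a (E := I) (F := EF) (G := I) h1 (isGrHomDeg_projF e j) h2 rfl n) (y l)
        rw [LinearMap.comp_apply] at e1 e2
        show π j _ = _
        rw [e1]
        refine e2.trans ?_
        rw [hmap_congr a hc h2 h3 n, hmap_smul_id a h3 (hul j)]
        rfl
      simp only [hterm]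
      rw [Finset.sum_congr rfl fun j _ => (hK.map_smul _ _ _).symm]
      simp only [← map_smul f, ← map_sum, ← LinearMap.sum_apply]
      have h0 : ∑ j, projF (𝒜 := 𝒜) e j (ιA (u l)) • t j = 0 :=
        (Fintype.linearCombination_apply R t _).symm.trans (show p (ιA (u l)) = 0 from (u l).2)
      rw [h0, map_zero, map_zero, LinearMap.zero_apply]
    choose w hw using hps
    have hwadd : ∀ z z', ∑ j, βK (f (t j)) (π j (w (z + z'))) =
        (∑ j, βK (f (t j)) (π j (w z))) + ∑ j, βK (f (t j)) (π j (w z')) := fun z z' => by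
      have := hkill (w (z + z') - w z - w z') (by rw [map_sub, map_sub, hw, hw, hw]; abel)
      simp only [map_sub, Finset.sum_sub_distrib] at this
      rwa [sub_sub, sub_eq_zero] at this
    let Ψ : EM.H a n →ₗ[k] k :=
      { toFun := fun z => ∑ j, βK (f (t j)) (π j (w z))
        map_add' := hwadd
        map_smul' := fun c z => by
          have := hkill (w (algebraMap k R c • z) - algebraMap k R c • w z) (by rw [map_sub, map_smul, hw, hw, sub_self])
          simp only [map_sub, Finset.sum_sub_distrib, map_smul, algebraMap_smul, sub_eq_zero] at this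
          rw [RingHom.id_apply, Finset.smul_sum]
          exact this }
    obtain ⟨δ, hδ, hδv⟩ := hD.exists_eq d Ψ
    refine ⟨δ, hext _ _ fun g x hx => ?_⟩
    suffices h : ∀ j, G δ (t j) = f (t j) by
      have : εl δ = f := by
        refine LinearMap.ext_on htop ?_
        rintro _ ⟨j, rfl⟩
        exact h j
      rw [this]
    intro j
    refine huniq _ _ fun y => ?_
    rw [hGv δ (ht j)]
    induction y using DirectSum.Decomposition.inductionOn (I.Hgr a n) with
    | zero => simp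
    | add y y' hy hy' => simp only [map_add, hy, hy']
    | @homogeneous h y =>
      have h1 := isGrHomDeg_hmap (E := I) (F := EM) a (isGrHomDeg_toSpan (ht j)) n h _ y.2
      rcases eq_or_ne (h + e j) (-d) with hh | hne
      · rw [hδv _ (hh ▸ h1)]
        show ∑ i, βK (f (t i)) (π i (w _)) = _
        let sF : R →ₗ[R] F.carrier := (LinearMap.single R (fun _ : Fin K₀ => R) j : R →ₗ[R] (Fin K₀ → R))
        have hs : GrLC.IsGrHomDeg 𝒜 F.gr sF (e j) := fun g r hr => by
          show (Pi.single j r : Fin K₀ → R) ∈ freePieces (𝒜 := 𝒜) e (g + e j)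
          intro i _
          show (Pi.single j r : Fin K₀ → R) i ∈ 𝒜 (g + e j - e i)
          rcases eq_or_ne i j with rfl | hij
          · rw [Pi.single_eq_same, add_sub_cancel_right]; exact hr
          · rw [Pi.single_eq_of_ne hij]; exact zero_mem _
        have hps' : hmap EF EM a p hp n (hmap I EF a sF hs n y) = hx' (ht j) y := by
          have hc : p ∘ₗ sF = LinearMap.toSpanSingleton R M (t j) := LinearMap.ext fun r => by
            show Fintype.linearCombination R t (Pi.single j r) = _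
            rw [Fintype.linearCombination_apply_single, LinearMap.toSpanSingleton_apply]
          exact (LinearMap.congr_fun ((hmap_comp a (E := I) (F := EF) (G := EM) hs hp (isGrHomDeg_comp hs hp (add_zero _)) (add_zero _) n).trans
            (hmap_congr a hc _ (isGrHomDeg_toSpan (ht j)) n)) y.1)
        have hk0 := hkill (w (hx' (ht j) y) - hmap I EF a sF hs n y) (by rw [map_sub, hw, hps', sub_self])
        simp only [map_sub, Finset.sum_sub_distrib, sub_eq_zero] at hk0
        rw [hk0, Finset.sum_eq_single j]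
        · have hc : projF (𝒜 := 𝒜) e j ∘ₗ sF = LinearMap.id := LinearMap.ext fun r => by
            show (Pi.single j r : Fin K₀ → R) j = r
            rw [Pi.single_eq_same]
          have h2 : GrLC.IsGrHomDeg 𝒜 𝒜 (LinearMap.id : R →ₗ[R] R) 0 := isGrHomDeg_zero_iff.2 fun _ _ hm => hm
          congr 1
          exact (LinearMap.congr_fun ((hmap_comp a (E := I) (F := EF) (G := I) hs (isGrHomDeg_projF e j)
            (isGrHomDeg_comp hs (isGrHomDeg_projF e j) (add_neg_cancel _)) (add_neg_cancel _) n).trans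
              ((hmap_congr a hc _ h2 n).trans (hmap_id a n h2))) y.1)
        · intro i _ hij
          have hc : projF (𝒜 := 𝒜) e i ∘ₗ sF = 0 := LinearMap.ext fun r => by
            show (Pi.single j r : Fin K₀ → R) i = 0
            rw [Pi.single_eq_of_ne hij]
          have h2 : GrLC.IsGrHomDeg 𝒜 𝒜 (0 : R →ₗ[R] R) (e j + -e i) := fun _ _ _ => zero_mem _
          rw [show π i (hmap I EF a sF hs n y) = 0 from
            LinearMap.congr_fun ((hmap_comp a (E := I) (F := EF) (G := I) hs (isGrHomDeg_projF e i)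
              (isGrHomDeg_comp hs (isGrHomDeg_projF e i) rfl) rfl n).trans
                ((hmap_congr a hc _ h2 n).trans (hmap_zero a h2 n))) y.1, map_zero]
        · intro hj; exact absurd (Finset.mem_univ j) hj
      · rw [hD.vanish d δ hδ (h + e j) hne _ h1, hK.vanish (e j + d) _ (hf _ _ (ht j)) h (by omega) _ y.2]
  have hsurj : Function.Surjective εl := fun f => by
    obtain ⟨S, hS⟩ := exists_sum_compHom 𝒦 ℳ (𝒜 := 𝒜) f
    choose δ hδ using fun d => hsurjd d _ (isGrHomDeg_compHom 𝒦 ℳ (𝒜 := 𝒜) f d)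
    exact ⟨∑ d ∈ S, δ d, ((map_sum εl δ S).trans (Finset.sum_congr rfl fun d _ => hδ d)).trans hS.symm⟩
  exact ⟨LinearEquiv.ofBijective εl ⟨hinj, hsurj⟩, hdeg⟩

end Dual

end Groth.Agent.GrLib8
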